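-- Flat base change for the Hochschild cohomology of a comodule.
import Groth.Agent.Hoch.K915.DSq
import Groth.Prelude.Def_CoactBr2
import Mathlib.RingTheory.Flat.Basic

set_option autoImplicit false
universe u v w u₁ u₂ u₃ u₄

open TensorProduct

namespace K915.HochBC

section Homology

variable {K : Type u} [CommRing K] {R : Type w} [CommRing R] [Algebra K R] [Module.Flat K R]

/-- Flat base change of `ker d / B`. -/
theorem homology_baseChange {C1 : Type u₁} {C2 : Type u₂} [AddCommGroup C1] [Module K C1] [AddCommGroup C2]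
    [Module K C2] {C1' : Type u₃} {C2' : Type u₄} [AddCommGroup C1'] [Module R C1'] [AddCommGroup C2']
    [Module R C2'] (d1 : C1 →ₗ[K] C2) (d1' : C1' →ₗ[R] C2') (φ1 : R ⊗[K] C1 →ₗ[R] C1')
    (φ2 : R ⊗[K] C2 →ₗ[R] C2') (h1 : Function.Bijective φ1) (h2 : Function.Injective φ2)
    (hcomm : ∀ x, φ2 (d1.baseChange R x) = d1' (φ1 x)) (B : Submodule K C1) (B' : Submodule R C1')
    (hB : B ≤ LinearMap.ker d1) (hBB' : B' = (LinearMap.range (B.subtype.baseChange R)).map φ1) :
    ∃ e : R ⊗[K] (LinearMap.ker d1 ⧸ B.comap (LinearMap.ker d1).subtype) ≃ₗ[R]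
        (LinearMap.ker d1' ⧸ B'.comap (LinearMap.ker d1').subtype),
      ∀ (r : R) (z : LinearMap.ker d1) (hz : φ1 (r ⊗ₜ[K] (z : C1)) ∈ LinearMap.ker d1'),
        e (r ⊗ₜ[K] (B.comap (LinearMap.ker d1).subtype).mkQ z) =
          (B'.comap (LinearMap.ker d1').subtype).mkQ ⟨φ1 (r ⊗ₜ[K] (z : C1)), hz⟩ := by
  set Z := LinearMap.ker d1 with hZ
  set Z' := LinearMap.ker d1' with hZ'
  set B0 : Submodule K Z := B.comap Z.subtype with hB0
  have hflat : Function.Exact (Z.subtype.baseChange R) (d1.baseChange R) := by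
    have := Module.Flat.lTensor_exact R (LinearMap.exact_subtype_ker_map d1)
    exact this
  have hinj : Function.Injective (Z.subtype.baseChange R) :=
    Module.Flat.lTensor_preserves_injective_linearMap (M := R) Z.subtype Z.injective_subtype
  have hmem : ∀ x : R ⊗[K] Z, φ1 (Z.subtype.baseChange R x) ∈ Z' := by
    intro x
    rw [hZ', LinearMap.mem_ker, ← hcomm]
    have := (hflat (Z.subtype.baseChange R x)).mpr ⟨x, rfl⟩
    rw [this, map_zero]
  let ψ : R ⊗[K] Z →ₗ[R] Z' := (φ1 ∘ₗ Z.subtype.baseChange R).codRestrict Z' hmem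
  have hψ : ∀ x, (ψ x : C1') = φ1 (Z.subtype.baseChange R x) := fun _ => rfl
  have hψs : Function.Surjective ψ := by
    rintro ⟨y, hy⟩
    obtain ⟨x, rfl⟩ := h1.2 y
    rw [hZ', LinearMap.mem_ker, ← hcomm] at hy
    have h0 : d1.baseChange R x = 0 := h2 (by rw [hy, map_zero])
    obtain ⟨z, rfl⟩ := (hflat x).mp h0
    exact ⟨z, Subtype.ext rfl⟩
  let p : R ⊗[K] Z →ₗ[R] (Z' ⧸ B'.comap Z'.subtype) := (B'.comap Z'.subtype).mkQ ∘ₗ ψ
  let q : R ⊗[K] Z →ₗ[R] R ⊗[K] (Z ⧸ B0) := B0.mkQ.baseChange R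
  have hp : Function.Surjective p := (Submodule.mkQ_surjective _).comp hψs
  have hq : Function.Surjective q := LinearMap.lTensor_surjective R (Submodule.mkQ_surjective B0)
  have hqex : Function.Exact (B0.subtype.baseChange R) q := by
    have := lTensor_exact R (f := B0.subtype) (g := B0.mkQ) (LinearMap.exact_subtype_mkQ B0)
      (Submodule.mkQ_surjective B0)
    exact this
  have hcomp : ∀ y : R ⊗[K] B0, Z.subtype.baseChange R (B0.subtype.baseChange R y) =
      B.subtype.baseChange R ((Z.subtype.restrict (p := B0) (q := B) fun x hx => hx).baseChange R y) := by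
    intro y
    induction y using TensorProduct.induction_on with
    | zero => simp
    | add x y hx hy => simp only [map_add, hx, hy]
    | tmul r b => rfl
  have hker : LinearMap.ker q = LinearMap.ker p := by
    ext x
    rw [LinearMap.mem_ker, LinearMap.mem_ker]
    constructor
    · intro hx
      obtain ⟨y, rfl⟩ := (hqex x).mp hx
      change (B'.comap Z'.subtype).mkQ _ = 0
      rw [Submodule.mkQ_apply, Submodule.Quotient.mk_eq_zero, Submodule.mem_comap]
      change φ1 (Z.subtype.baseChange R (B0.subtype.baseChange R y)) ∈ B'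
      rw [hcomp, hBB']
      exact ⟨_, ⟨_, rfl⟩, rfl⟩
    · intro hx
      have hx1 : φ1 (Z.subtype.baseChange R x) ∈ B' := by
        have : (B'.comap Z'.subtype).mkQ (ψ x) = 0 := hx
        rw [Submodule.mkQ_apply, Submodule.Quotient.mk_eq_zero, Submodule.mem_comap] at this
        exact this
      rw [hBB'] at hx1
      obtain ⟨_, ⟨y, rfl⟩, hy⟩ := hx1
      have hy1 : B.subtype.baseChange R y = Z.subtype.baseChange R x := h1.1 hy
      -- `B → B0`
      let j : B →ₗ[K] B0 := (Submodule.inclusion hB).codRestrict B0 fun b => b.2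
      have hj : ∀ y : R ⊗[K] B, Z.subtype.baseChange R (B0.subtype.baseChange R (j.baseChange R y)) =
          B.subtype.baseChange R y := by
        intro y
        induction y using TensorProduct.induction_on with
        | zero => simp
        | add x y hx hy => simp only [map_add, hx, hy]
        | tmul r b => rfl
      have hx2 : x = B0.subtype.baseChange R (j.baseChange R y) := hinj (by rw [hj, hy1])
      exact (hqex x).mpr ⟨_, hx2.symm⟩
  refine ⟨(q.quotKerEquivOfSurjective hq).symm.trans ((Submodule.quotEquivOfEq _ _ hker).trans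
    (p.quotKerEquivOfSurjective hp)), fun r z hz => ?_⟩
  have h3 : r ⊗ₜ[K] B0.mkQ z = q (r ⊗ₜ[K] z) := rfl
  rw [h3, LinearEquiv.trans_apply]
  have h4 : (q.quotKerEquivOfSurjective hq).symm (q (r ⊗ₜ[K] z)) = Submodule.Quotient.mk (r ⊗ₜ[K] z) := by
    rw [LinearEquiv.symm_apply_eq]; rfl
  rw [h4]
  rfl

end Homology

section Step

variable {K : Type u} [CommRing K] {A : Type v} [CommRing A] [Bialgebra K A] {R : Type w} [CommRing R] [Algebra K R]

/-- The comultiplication of `R ⊗ A` on `1 ⊗ a`. -/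
theorem comul_one_tmul (a : A) : Coalgebra.comul (R := R) (A := R ⊗[K] A) ((1 : R) ⊗ₜ[K] a) =
    AlgebraTensorModule.distribBaseChange K R A A ((1 : R) ⊗ₜ[K] Coalgebra.comul (R := K) a) := by
  rw [TensorProduct.comul_tmul]
  generalize Coalgebra.comul (R := K) a = w
  induction w using TensorProduct.induction_on with
  | zero => simp
  | add x y hx hy => simp only [TensorProduct.tmul_add, map_add, hx, hy]
  | tmul x y => rfl

theorem distrib_tmul {X : Type v} [AddCommGroup X] [Module K X] (r : R) (x : X) (a : A) :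
    AlgebraTensorModule.distribBaseChange K R X A (r ⊗ₜ[K] (x ⊗ₜ[K] a)) =
      (r ⊗ₜ[K] x) ⊗ₜ[R] ((1 : R) ⊗ₜ[K] a) := by
  rw [AlgebraTensorModule.distribBaseChange_tmul]

variable {X : Type v} [AddCommGroup X] [Module K X] {Y : Type (max v w)} [AddCommGroup Y] [Module R Y]

variable (A) in
/-- `r ⊗ (x ⊗ a) ↦ f (r ⊗ x) ⊗ (1 ⊗ a)`. -/
noncomputable def ext (f : R ⊗[K] X →ₗ[R] Y) : R ⊗[K] (X ⊗[K] A) →ₗ[R] Y ⊗[R] (R ⊗[K] A) :=
  f.rTensor (R ⊗[K] A) ∘ₗ (AlgebraTensorModule.distribBaseChange K R X A).toLinearMap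

theorem ext_tmul (f : R ⊗[K] X →ₗ[R] Y) (r : R) (x : X) (a : A) :
    ext A f (r ⊗ₜ[K] (x ⊗ₜ[K] a)) = f (r ⊗ₜ[K] x) ⊗ₜ[R] ((1 : R) ⊗ₜ[K] a) := by
  rw [ext, LinearMap.comp_apply, LinearEquiv.coe_coe, distrib_tmul, LinearMap.rTensor_tmul]

theorem ext_bijective (f : R ⊗[K] X →ₗ[R] Y) (hf : Function.Bijective f) : Function.Bijective (ext A f) := by
  let e : R ⊗[K] X ≃ₗ[R] Y := LinearEquiv.ofBijective f hf
  have : ext A f = (AlgebraTensorModule.distribBaseChange K R X A ≪≫ₗ e.rTensor (R ⊗[K] A)).toLinearMap := rfl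
  rw [this]
  exact (AlgebraTensorModule.distribBaseChange K R X A ≪≫ₗ e.rTensor (R ⊗[K] A)).bijective

theorem ext_eq (f : R ⊗[K] X →ₗ[R] Y) (F : R ⊗[K] (X ⊗[K] A) →ₗ[R] Y ⊗[R] (R ⊗[K] A))
    (hF : ∀ r x a, F (r ⊗ₜ[K] (x ⊗ₜ[K] a)) = f (r ⊗ₜ[K] x) ⊗ₜ[R] ((1 : R) ⊗ₜ[K] a)) : F = ext A f := by
  apply LinearMap.ext
  intro z
  induction z using TensorProduct.induction_on with
  | zero => simp
  | add x y hx hy => simp only [map_add, hx, hy]
  | tmul r w =>
    induction w using TensorProduct.induction_on with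
    | zero => simp
    | add x y hx hy => simp only [TensorProduct.tmul_add, map_add, hx, hy]
    | tmul x a => rw [hF, ext_tmul]

theorem ext_ext_tail (f : R ⊗[K] X →ₗ[R] Y) (z : R ⊗[K] (X ⊗[K] A)) :
    ext A (ext A f) ((Hoch.tail K A X).baseChange R z) = Hoch.tail R (R ⊗[K] A) Y (ext A f z) := by
  induction z using TensorProduct.induction_on with
  | zero => simp
  | add x y hx hy => simp only [map_add, hx, hy]
  | tmul r w =>
    induction w using TensorProduct.induction_on with
    | zero => simp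
    | add x y hx hy => simp only [TensorProduct.tmul_add, map_add, hx, hy]
    | tmul x a =>
      have h1 : ∀ w : A ⊗[K] A, ext A (ext A f) (r ⊗ₜ[K] ((TensorProduct.assoc K X A A).symm (x ⊗ₜ[K] w))) =
          (TensorProduct.assoc R Y (R ⊗[K] A) (R ⊗[K] A)).symm (f (r ⊗ₜ[K] x) ⊗ₜ[R]
            AlgebraTensorModule.distribBaseChange K R A A ((1 : R) ⊗ₜ[K] w)) := by
        intro w
        induction w using TensorProduct.induction_on with
        | zero => simp
        | add x y hx hy => simp only [TensorProduct.tmul_add, map_add, hx, hy]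
        | tmul a b =>
          rw [TensorProduct.assoc_symm_tmul, ext_tmul, ext_tmul, distrib_tmul, TensorProduct.assoc_symm_tmul]
      rw [LinearMap.baseChange_tmul, Hoch.tail_tmul, h1, ext_tmul, Hoch.tail_tmul, comul_one_tmul,
        TensorProduct.tmul_sub, TensorProduct.tmul_sub, map_sub, map_sub, distrib_tmul, distrib_tmul]
      rfl

/-- The step: compatibility with the differentials passes to the next degree. -/
theorem step (f : R ⊗[K] X →ₗ[R] Y) (D : X →ₗ[K] X ⊗[K] A) (E : Y →ₗ[R] Y ⊗[R] (R ⊗[K] A)) (c : K) (c' : R)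
    (hc : c' = algebraMap K R c) (h : ∀ x, ext A f (D.baseChange R x) = E (f x)) (z : R ⊗[K] (X ⊗[K] A)) :
    ext A (ext A f) ((D.rTensor A + c • Hoch.tail K A X).baseChange R z) =
      (E.rTensor (R ⊗[K] A) + c' • Hoch.tail R (R ⊗[K] A) Y) (ext A f z) := by
  rw [LinearMap.baseChange_add, LinearMap.add_apply, map_add, LinearMap.add_apply]
  congr 1
  · induction z using TensorProduct.induction_on with
    | zero => simp
    | add x y hx hy => simp only [map_add, hx, hy]
    | tmul r w =>
      induction w using TensorProduct.induction_on with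
      | zero => simp
      | add x y hx hy => simp only [TensorProduct.tmul_add, map_add, hx, hy]
      | tmul x a =>
        rw [LinearMap.baseChange_tmul, LinearMap.rTensor_tmul, ext_tmul, ext_tmul, LinearMap.rTensor_tmul, ← h]
        rfl
  · have h1 : (c • Hoch.tail K A X).baseChange R z = c' • (Hoch.tail K A X).baseChange R z := by
      rw [LinearMap.baseChange_smul, LinearMap.smul_apply, hc, algebraMap_smul]
    rw [h1, map_smul, LinearMap.smul_apply, ← ext_ext_tail]

end Step

end K915.HochBC
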