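-- An invariant integral contracts the Hochschild complex of every comodule.
import Groth.Agent.Hoch.K915.Basic

set_option autoImplicit false
universe u v w

open TensorProduct

namespace K915.HochIntegral

variable (k : Type u) [CommRing k] (A : Type v) [Ring A] [Bialgebra k A]

/-- `m ⊗ a ↦ I(a) m`. -/
noncomputable def app (I : A →ₗ[k] k) (M : Type v) [AddCommGroup M] [Module k M] : M ⊗[k] A →ₗ[k] M :=
  (TensorProduct.rid k M).toLinearMap ∘ₗ I.lTensor M

@[simp] theorem app_tmul (I : A →ₗ[k] k) (M : Type v) [AddCommGroup M] [Module k M] (m : M) (a : A) :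
    app k A I M (m ⊗ₜ[k] a) = I a • m := by
  simp [app]

theorem homotopy_step (I : A →ₗ[k] k) (hI1 : I 1 = 1)
    (hI : ∀ a : A, app k A I A (Coalgebra.comul (R := k) a) = I a • (1 : A))
    {X : Type v} [AddCommGroup X] [Module k X] (D : X →ₗ[k] X ⊗[k] A) (c : k) :
    app k A I (X ⊗[k] A) ∘ₗ (D.rTensor A + c • Hoch.tail k A X) = D ∘ₗ app k A I X - c • LinearMap.id := by
  refine TensorProduct.ext' fun x a => ?_
  have h1 : ∀ w : A ⊗[k] A, app k A I (X ⊗[k] A) ((TensorProduct.assoc k X A A).symm (x ⊗ₜ[k] w)) =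
      x ⊗ₜ[k] (app k A I A w) := by
    intro w
    induction w using TensorProduct.induction_on with
    | zero => simp
    | add z₁ z₂ h₁ h₂ => simp only [map_add, TensorProduct.tmul_add, h₁, h₂]
    | tmul a b => simp
  have h2 : app k A I (X ⊗[k] A) (Hoch.tail k A X (x ⊗ₜ[k] a)) = - (x ⊗ₜ[k] a) := by
    rw [Hoch.tail_tmul, h1, map_sub, map_sub, hI, app_tmul, app_tmul, hI1, one_smul,
      sub_right_comm, sub_self, zero_sub, TensorProduct.tmul_neg]
  rw [LinearMap.comp_apply, LinearMap.add_apply, LinearMap.smul_apply, LinearMap.rTensor_tmul, map_add,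
    map_smul, h2, LinearMap.sub_apply, LinearMap.comp_apply, LinearMap.smul_apply, LinearMap.id_apply,
    app_tmul, app_tmul, map_smul, smul_neg, sub_eq_add_neg]

variable (V : Type v) [AddCommGroup V] [Module k V] [HopfRep.Comod k A V]

/-- With an invariant integral, every cocycle of positive degree is a coboundary. -/
theorem cocycles_le_coboundaries (I : A →ₗ[k] k) (hI1 : I 1 = 1)
    (hI : ∀ a : A, app k A I A (Coalgebra.comul (R := k) a) = I a • (1 : A)) (n : ℕ) :
    Hoch.cocycles k A V (n + 1) ≤ Hoch.coboundaries k A V (n + 1) := by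
  intro x hx
  have hx0 : Hoch.d k A V (n + 1) x = 0 := LinearMap.mem_ker.mp hx
  have h := LinearMap.congr_fun (homotopy_step k A I hI1 hI (Hoch.d k A V n) ((-1 : k) ^ (n + 1))) x
  have h' : app k A I _ (Hoch.d k A V (n + 1) x) =
    Hoch.d k A V n (app k A I _ x) - ((-1 : k) ^ (n + 1)) • x := h
  rw [hx0, map_zero] at h'
  have h2 : ((-1 : k) ^ (n + 1)) • x = Hoch.d k A V n (app k A I _ x) := (sub_eq_zero.mp h'.symm).symm
  refine ⟨((-1 : k) ^ (n + 1)) • app k A I _ x, ?_⟩
  rw [map_smul, ← h2, smul_smul, ← mul_pow]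
  simp

end K915.HochIntegral
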